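import Mathlib.RingTheory.PowerSeries.WeierstrassPreparation
import Mathlib.RingTheory.PowerSeries.Substitution
import Mathlib.RingTheory.DiscreteValuationRing.Basic
import Mathlib.LinearAlgebra.Dimension.StrongRankCondition
import Mathlib.LinearAlgebra.Dimension.Constructions

/-!
Power series free over a substitution endomorphism.
-/

set_option autoImplicit false

universe u

open PowerSeries

namespace GrothLib.FmlGrpW

variable {O : Type u} [CommRing O] [IsLocalRing O] (f : PowerSeries O) (h0 : PowerSeries.constantCoeff f = 0)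

include h0 in
theorem subst_decomp (c : PowerSeries O) :
    subst f c = C (constantCoeff c) + f * subst f (mk fun p => coeff (p + 1) c) := by
  have hs : HasSubst f := HasSubst.of_constantCoeff_zero' h0
  conv_lhs => rw [eq_X_mul_shift_add_const c]
  rw [subst_add hs, subst_mul hs, subst_X hs, subst_C, add_comm]
  rfl

include h0 in
theorem not_free (hf : f.map (IsLocalRing.residue O) = 0) (n : ℕ) (b : Fin n → PowerSeries O)
    (h : ∀ g : PowerSeries O, ∃ c : Fin n → PowerSeries O, g = ∑ i, subst f (c i) * b i) : False := by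
  let κ := IsLocalRing.ResidueField O
  let r := IsLocalRing.residue O
  let L : (Fin n → κ) →ₗ[κ] (Fin (n + 1) → κ) :=
    { toFun := fun a t => ∑ i, a i * r (coeff (t : ℕ) (b i))
      map_add' := fun a a' => funext fun t => by simp [add_mul, Finset.sum_add_distrib]
      map_smul' := fun s a => funext fun t => by
        simp only [Pi.smul_apply, smul_eq_mul, RingHom.id_apply, mul_assoc]
        exact (Finset.mul_sum ..).symm }
  have hsurj : Function.Surjective L := fun v => by
    choose w hw using fun t => IsLocalRing.residue_surjective (v t)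
    obtain ⟨c, hc⟩ := h (mk fun j => if hj : j < n + 1 then w ⟨j, hj⟩ else 0)
    refine ⟨fun i => r (constantCoeff (c i)), funext fun t => ?_⟩
    have h1 := congrArg (fun z => coeff (t : ℕ) (z.map r)) hc
    rw [coeff_map, coeff_mk, dif_pos t.2, map_sum (PowerSeries.map r), map_sum (coeff (t : ℕ))] at h1
    rw [← hw t]
    show ∑ i, r (constantCoeff (c i)) * r (coeff (t : ℕ) (b i)) = _
    rw [h1]
    refine Finset.sum_congr rfl fun i _ => ?_
    rw [map_mul (PowerSeries.map r), subst_decomp f h0, map_add (PowerSeries.map r), map_mul (PowerSeries.map r),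
      hf, zero_mul, add_zero, map_C, coeff_C_mul, coeff_map]
  have := LinearMap.finrank_le_finrank_of_surjective hsurj
  simp at this

include h0 in
theorem step [IsAdicComplete (IsLocalRing.maximalIdeal O) O] (hf : f.map (IsLocalRing.residue O) ≠ 0)
    (c : Fin (f.map (IsLocalRing.residue O)).order.toNat → PowerSeries O)
    (hc : ∑ i, subst f (c i) * X ^ (i : ℕ) = 0) :
    (∀ i, coeff 0 (c i) = 0) ∧ ∑ i, subst f (mk fun p => coeff (p + 1) (c i)) * X ^ (i : ℕ) = 0 := by
  classical
  let r : Polynomial O := ∑ i : Fin (f.map (IsLocalRing.residue O)).order.toNat, Polynomial.C (constantCoeff (c i)) * Polynomial.X ^ (i : ℕ)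
  have hdeg : r.degree < (f.map (IsLocalRing.residue O)).order.toNat := by
    refine (Polynomial.degree_sum_le _ _).trans_lt ((Finset.sup_lt_iff (WithBot.bot_lt_coe _)).2 fun i _ => ?_)
    exact (Polynomial.degree_C_mul_X_pow_le _ _).trans_lt (by exact_mod_cast i.2)
  have hH : IsWeierstrassDivision 0 f (∑ i, subst f (mk fun p => coeff (p + 1) (c i)) * X ^ (i : ℕ)) r := by
    refine ⟨hdeg, ?_⟩
    rw [← hc, ← Polynomial.coeToPowerSeries.ringHom_apply, map_sum, Finset.mul_sum, ← Finset.sum_add_distrib]
    refine Finset.sum_congr rfl fun i _ => ?_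
    rw [subst_decomp f h0 (c i), map_mul, map_pow, Polynomial.coeToPowerSeries.ringHom_apply,
      Polynomial.coeToPowerSeries.ringHom_apply, Polynomial.coe_C, Polynomial.coe_X]
    ring
  obtain ⟨hq, hr⟩ := hH.eq_zero hf
  refine ⟨fun i => ?_, hq⟩
  have := congrArg (Polynomial.coeff · (i : ℕ)) hr
  simpa [r, Polynomial.finset_sum_coeff, Polynomial.coeff_C_mul_X_pow, Fin.val_inj] using this


include h0 in
theorem free [IsAdicComplete (IsLocalRing.maximalIdeal O) O] (hf : f.map (IsLocalRing.residue O) ≠ 0) :
    ∃ (n : ℕ) (b : Fin n → PowerSeries O), ∀ g : PowerSeries O, ∃! c : Fin n → PowerSeries O,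
      g = ∑ i, subst f (c i) * b i := by
  set n := (f.map (IsLocalRing.residue O)).order.toNat
  have hs : HasSubst f := HasSubst.of_constantCoeff_zero' h0
  refine ⟨n, fun i => X ^ (i : ℕ), fun g => ?_⟩
  -- the two expansions
  have hzero : ∀ (j : ℕ) (c : Fin n → PowerSeries O), ∑ i, subst f (c i) * X ^ (i : ℕ) = 0 →
      ∀ i, coeff j (c i) = 0 := by
    intro j
    induction j with
    | zero =>
      intro c hc i
      have hq := step f h0 hf c hc
      exact hq.1 i
    | succ j ih =>
      intro c hc i
      have hq := step f h0 hf c hc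
      have := ih _ hq.2 i
      rwa [coeff_mk] at this
  let qs : ℕ → PowerSeries O := fun j => Nat.rec g (fun _ q => q /ʷ f) j
  let rs : ℕ → Polynomial O := fun j => qs j %ʷ f
  have hstep : ∀ j, qs j = f * qs (j + 1) + (rs j : PowerSeries O) := fun j =>
    eq_mul_weierstrassDiv_add_weierstrassMod (qs j) hf
  have hsum : ∀ N, g = (∑ j ∈ Finset.range N, f ^ j * (rs j : PowerSeries O)) + f ^ N * qs N := fun N => by
    induction N with
    | zero => simp [qs]
    | succ N ih =>
      conv_lhs => rw [ih, hstep N]
      rw [Finset.sum_range_succ]; ring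
  let c : Fin n → PowerSeries O := fun i => mk fun j => (rs j).coeff i
  have hpoly : ∀ j, (rs j : PowerSeries O) = ∑ i : Fin n, C ((rs j).coeff i) * X ^ (i : ℕ) := fun j => by
    ext t
    rw [Polynomial.coeff_coe, map_sum]
    simp only [coeff_C_mul_X_pow]
    by_cases ht : t < n
    · rw [Finset.sum_eq_single ⟨t, ht⟩ (fun i _ hne => if_neg fun e => hne (Fin.ext e.symm))
        (fun h => absurd (Finset.mem_univ _) h), if_pos rfl]
    · rw [Finset.sum_eq_zero fun i _ => if_neg fun e => ht (lt_of_eq_of_lt e i.2)]
      refine Polynomial.coeff_eq_zero_of_degree_lt (lt_of_lt_of_le (degree_weierstrassMod_lt _ _) ?_)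
      exact_mod_cast not_lt.1 ht
  have hexp : ∀ (d : PowerSeries O) (N : ℕ), ∃ R, subst f d = (∑ j ∈ Finset.range N, C (coeff j d) * f ^ j) + f ^ N * R := by
    intro d N
    induction N generalizing d with
    | zero => exact ⟨subst f d, by simp⟩
    | succ N ih =>
      obtain ⟨R, hR⟩ := ih (mk fun p => coeff (p + 1) d)
      refine ⟨R, ?_⟩
      rw [subst_decomp f h0, hR, Finset.sum_range_succ', mul_add, Finset.mul_sum, pow_zero, mul_one,
        ← coeff_zero_eq_constantCoeff_apply, add_comm (C _) (_ + _), add_right_comm]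
      congr 1
      · congr 1
        refine Finset.sum_congr rfl fun j _ => ?_
        rw [coeff_mk]; ring
      · ring
  have hex : g = ∑ i, subst f (c i) * X ^ (i : ℕ) := by
    refine PowerSeries.ext fun t => ?_
    choose R hR using fun i => hexp (c i) (t + 1)
    rw [Finset.sum_congr rfl fun i _ => by rw [hR i, add_mul, Finset.sum_mul], Finset.sum_add_distrib,
      Finset.sum_comm]
    have hmain : ∑ j ∈ Finset.range (t + 1), ∑ i, C (coeff j (c i)) * f ^ j * X ^ (i : ℕ) =
        ∑ j ∈ Finset.range (t + 1), f ^ j * (rs j : PowerSeries O) := by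
      refine Finset.sum_congr rfl fun j _ => ?_
      rw [hpoly j, Finset.mul_sum]
      refine Finset.sum_congr rfl fun i _ => ?_
      simp only [c, coeff_mk]; ring
    rw [hmain]
    conv_lhs => rw [hsum (t + 1)]
    have hdvd : ∀ z, coeff t (f ^ (t + 1) * z) = 0 := fun z =>
      X_pow_dvd_iff.1 (dvd_mul_of_dvd_left (pow_dvd_pow_of_dvd (X_dvd_iff.2 h0) (t + 1)) z) t (Nat.lt_succ_self t)
    rw [map_add, map_add, hdvd, map_sum (coeff t) _ (Finset.univ : Finset (Fin n))]
    congr 1
    exact (Finset.sum_eq_zero fun i _ => by rw [mul_assoc, hdvd]).symm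
  refine ⟨c, hex, fun d hd => funext fun i => PowerSeries.ext fun j => sub_eq_zero.1 ?_⟩
  rw [← map_sub]
  refine hzero j (fun i => d i - c i) ?_ i
  simp only [subst_sub hs, sub_mul, Finset.sum_sub_distrib]
  rw [← hd, ← hex, sub_self]
end GrothLib.FmlGrpW
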